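import Cfsg.Agent.Lib.SmallSimple.Small1092.Filter
import Cfsg.Agent.Lib.SmallSimple.SubgroupsAltEight
import Cfsg.Agent.Lib.Classical.Order
import Cfsg.Agent.S0499
import Cfsg.Agent.S0998
import Cfsg.Agent.S4501

/-!
A non-abelian simple group of order at most 1092 has one of sixteen orders.
-/

set_option autoImplicit false

namespace Cfsg.Agent.Lib.SmallSimple.Small1092

open Cfsg

variable {G : Type*} [Group G] [Finite G] [IsSimpleGroup G]

theorem not_solvable (hG : ¬ IsMulCommutative G) : ¬ Group.IsSolvable G := fun h => by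
  have hc := IsSimpleGroup.comm_iff_isSolvable.2 h
  exact hG ⟨⟨hc⟩⟩

theorem card_alt_five : Nat.card (alternatingGroup (Fin 5)) = 60 := by
  rw [nat_card_alternatingGroup, Nat.card_fin]; rfl

theorem card_psl_five_seven {F : Type} [Field F] [Fintype F] (h : Fintype.card F = 5 ∨ Fintype.card F = 7) :
    Nat.card (Matrix.ProjectiveSpecialLinearGroup (Fin 2) F) ∈ [60, 168] := by
  have h2 := Classical.card_PSL_two (F := F)
  rcases h with h | h <;> rw [h] at h2 <;> norm_num at h2 <;> simp <;> omega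

theorem mem_rest (hG : ¬ IsMulCommutative G) (h : Nat.card G ≤ 1092) : Nat.card G ∈ rest := by
  have hnt : Nontrivial G := inferInstance
  have hok := ok_of_le (n := Nat.card G) Finite.one_lt_card h
  simp only [ok, Bool.or_eq_true] at hok
  rcases hok with (h2 | hr) | hs
  · simp only [Bool.and_eq_true, beq_iff_eq, Bool.not_eq_true', beq_eq_false_iff_ne] at h2
    rcases Cfsg.Agent.S0499.result hG (Nat.even_iff.2 h2.1.1.1) with h' | h' | h' <;> omega
  · simpa using hr
  · have hnc : ¬ IsCyclic G := fun hc => hG (by letI := hc; exact inferInstance)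
    have hna : ∃ x y : G, x * y ≠ y * x := by
      by_contra hcon; push Not at hcon
      exact hG ⟨⟨hcon⟩⟩
    have key60 : Nat.card G ∈ [60, 168] → Nat.card G ∈ rest := fun h' => by
      simp only [List.mem_cons, List.not_mem_nil, or_false] at h'
      rcases h' with h' | h' <;> rw [h'] <;> decide
    rcases hl : facs 6 (Nat.card G) with _ | ⟨⟨p, a⟩, _ | ⟨⟨q, b⟩, _ | ⟨⟨r, c⟩, _ | ⟨x, l⟩⟩⟩⟩
      <;> rw [hl] at hs <;> simp only [shape, Bool.and_eq_true, Bool.or_eq_true, beq_iff_eq, Bool.not_eq_true',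
        beq_eq_false_iff_ne, Nat.ble_eq, Bool.false_eq_true] at hs
    · refine absurd (AltEight.solvable_two_primes (isP_sound hs.1) Nat.prime_two (a := a) (b := 0) ?_) (not_solvable hG)
      rw [pow_zero, mul_one]; exact hs.2.dvd
    · obtain ⟨⟨hp, hq⟩, he⟩ := hs
      exact absurd (AltEight.solvable_two_primes (isP_sound hp) (isP_sound hq) he.dvd) (not_solvable hG)
    · obtain ⟨⟨⟨⟨⟨⟨⟨hp, hq⟩, hr⟩, hpq⟩, hpr⟩, hqr⟩, he⟩, hc⟩ := hs
      have P := isP_sound hp
      have Q := isP_sound hq
      have R := isP_sound hr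
      have k998 : ∀ {p q r b : ℕ}, p.Prime → q.Prime → r.Prime → p ≠ q → p ≠ r → q ≠ r →
          Nat.card G = p * r * q ^ b → Nat.card G ∈ rest := by
        intro p q r b hp hq hr h1 h2 h3 e
        refine key60 ?_
        rcases Cfsg.Agent.S0998.result hnc p q r b hp hq hr h1 h2 h3 e with ⟨F, i1, i2, hF, ⟨f⟩⟩ | ⟨F, i1, i2, hF, ⟨f⟩⟩
        · rw [Nat.card_congr f.toEquiv]; exact card_psl_five_seven (Or.inl hF)
        · rw [Nat.card_congr f.toEquiv]; exact card_psl_five_seven (Or.inr hF)
      have k4 : ∀ {p q a b : ℕ}, p.Prime → q.Prime → p ≠ q → a ≤ 2 →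
          (Nat.card G = 4 * p ^ a * q ^ b ∨ Nat.card G = 3 * p ^ a * q ^ b) → Nat.card G ∈ rest := by
        intro p q a b hp hq hpq ha e
        refine key60 ?_
        obtain ⟨k1, k2⟩ := Cfsg.Agent.S4501.result hna p q a b hp hq hpq ha
        rcases e with e | e
        · obtain ⟨f⟩ := k1 e; rw [Nat.card_congr f.toEquiv, card_alt_five]; simp
        · rcases k2 e with f | f <;> obtain ⟨f⟩ := f
          · rw [Nat.card_congr f.toEquiv, card_alt_five]; simp
          · rw [Nat.card_congr f.toEquiv]; exact card_psl_five_seven (Or.inr (ZMod.card 7))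
      rcases hc with ((((hab | hac) | hbc) | ⟨hP, hle⟩) | ⟨⟨hq3, hb1⟩, hle⟩)
      · obtain ⟨rfl, rfl⟩ := hab
        exact k998 (b := c) P R Q hpr hpq hqr.symm (by rw [he, pow_one, pow_one])
      · obtain ⟨rfl, rfl⟩ := hac
        exact k998 (b := b) P Q R hpq hpr hqr (by rw [he, pow_one, pow_one]; ring)
      · obtain ⟨rfl, rfl⟩ := hbc
        exact k998 (b := a) Q P R hpq.symm hqr hpr (by rw [he, pow_one, pow_one]; ring)
      · rcases hP with ⟨rfl, rfl⟩ | ⟨rfl, rfl⟩ <;> rcases hle with hle | hle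
        · exact k4 (b := c) Q R hqr hle (Or.inl (by rw [he]; norm_num))
        · exact k4 (b := b) R Q hqr.symm hle (Or.inl (by rw [he]; ring))
        · exact k4 (b := c) Q R hqr hle (Or.inr (by rw [he]; norm_num))
        · exact k4 (b := b) R Q hqr.symm hle (Or.inr (by rw [he]; ring))
      · subst hq3 hb1
        rcases hle with hle | hle
        · exact k4 (b := c) P R hpr hle (Or.inr (by rw [he]; ring))
        · exact k4 (b := a) R P hpr.symm hle (Or.inr (by rw [he]; ring))

end Cfsg.Agent.Lib.SmallSimple.Small1092
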